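import Cfsg.Agent.H678.DG.Blk
import Cfsg.Agent.H852.PSq.JTwoData
import Cfsg.Agent.SporadicA.J2Hundred
import Cfsg.Agent.J2.HundredGens
import Cfsg.Agent.S1619
import Cfsg.Agent.H33.IM

/-!
# The Hall-Janko group has an irreducible character of degree 175 (helper852)

The action on the 525 subsets of size 36 of the 100 points (unions of the three fixed point sets of the involutions of
a line of the near octagon); the relation is "the intersection has size 12". The tables are checked with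
`H678/DG/Blk.lean` (helper678).
-/

set_option autoImplicit false
set_option maxRecDepth 100000

namespace Cfsg.Agent.H852.PSq.JTwo

universe u

open Cfsg Equiv Cfsg.Agent.SporadicA.PermTab Cfsg.Agent.SporadicA.J2Data Cfsg.Agent.SporadicA.J2Hundred
open Cfsg.Agent.H852.PSq.JTwoData Cfsg.Agent.H678.DG.Blk

/-- the mask of the subset -/
def mk (x : ℕ) : ℕ := Nat.land (Nat.shiftRight SM (Nat.mul 100 x)) 1267650600228229401496703205375

/-- the tables -/
def PQ : List (ℕ × ℕ) := [(tA, rA), (tB, rB), (tC, rC), (tD, rD), (tE, rE)]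

/-- the roots -/
def bs : List ℕ := [1, 33, 129, 321, 513]

/-- words of the stabiliser -/
def KW : List (List (ℕ × ℕ)) := [[(tD, rD), (tC, rC), (tD, rD)],
  [(tB, rB), (tA, rA), (tD, rD), (tC, rC), (tB, rB), (tA, rA), (tE, rE), (tD, rD), (tB, rB), (tC, rC)],
  [(tC, rC), (tE, rE), (tD, rD), (tC, rC), (tB, rB), (tA, rA), (tB, rB), (tD, rD), (tC, rC), (tD, rD), (tB, rB),
    (tC, rC), (tD, rD), (tE, rE)]]

/-- sizes -/
def kk (j : ℕ) : ℕ := [1, 32, 96, 192, 192, 12].getD j 0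

/-- the collapsed matrix -/
def B (i j : ℕ) : ℕ := ([[0, 32, 0, 0, 0, 0], [1, 7, 12, 0, 12, 0], [0, 4, 4, 12, 12, 0], [0, 0, 6, 12, 12, 2],
  [0, 2, 6, 12, 12, 0], [0, 0, 0, 32, 0, 0]].getD i []).getD j 0

theorem c1 : allL (chkPQ 100 525 mk) PQ = true := by decide +kernel
theorem c2 : chkInj 525 100 mk = true := by decide +kernel
theorem c3 : allL (chkW 525 bs) KW = true := by decide +kernel
theorem c4 : chkF 525 bs PQ KW (lk PR) = true := by decide +kernel
theorem c5 : chkK 525 6 bs kk = true := by decide +kernel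
theorem c6 : chkB 100 525 6 12 mk bs B = true := by decide +kernel

theorem hGT : ∀ g ∈ gens, ∃ pq ∈ PQ, ∀ i : Fin 100, ((g i : Fin 100) : ℕ) = lk pq.1 i := by
  rintro g (rfl | rfl | rfl | rfl | rfl)
  · exact ⟨(tA, rA), by simp [PQ], fun i => mkPerm_val tA tA iA i⟩
  · exact ⟨(tB, rB), by simp [PQ], fun i => mkPerm_val tB tB iB i⟩
  · exact ⟨(tC, rC), by simp [PQ], fun i => mkPerm_val tC tC iC i⟩
  · exact ⟨(tD, rD), by simp [PQ], fun i => mkPerm_val tD tD iD i⟩
  · exact ⟨(tE, rE), by simp [PQ], fun i => mkPerm_val tE tE iE i⟩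

theorem hin : ∀ pq ∈ PQ, InG G pq.1 := by
  intro pq h
  simp only [PQ, List.mem_cons, List.not_mem_nil, or_false] at h
  rcases h with rfl | rfl | rfl | rfl | rfl
  exacts [inA, inB, inC, inD, inE]

theorem hKW : ∀ w ∈ KW, ∀ pq ∈ w, pq ∈ PQ := by
  intro w hw pq hpq
  simp only [KW, List.mem_cons, List.not_mem_nil, or_false] at hw
  unfold PQ
  rcases hw with rfl | rfl | rfl <;>
  · simp only [List.mem_cons, List.not_mem_nil, or_false] at hpq ⊢
    tauto

theorem deg_175 : ∃ χ : IrrCharacter G, charDegree (χ : G → ℂ) = 175 :=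
  deg_of_tables (s := 12) (rfl : G = Subgroup.closure gens) hGT hin hKW (by norm_num) rfl c1 c2 c3 c4 c5 c6 (by norm_num)
    ![1, -1/8, 1/16, 1/32, -1/32, -1/4] (-4)
    ![![0, 0, 0, 0, 0, 0], ![1/32, 0, 0, 0, 0, 0], ![-17/576, 1/18, 1/6, 0, -1/6, 0],
      ![29/3456, -7/108, 5/36, 0, -1/18, 0], ![1/1152, 1/36, -1/6, 0, 1/6, 0], ![7/432, 5/27, -11/18, 1/2, -1/18, 0]]
    175 (by decide +kernel) (by decide +kernel) (by decide +kernel) (by decide +kernel)

/-- The pair `(J2, 5)`. -/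
theorem sq_j2_five {S : Type u} [Group S] (h : Spor.IsoJ2 S) : H33.IM (5 ^ 2) S := by
  obtain ⟨e⟩ := h
  obtain ⟨f⟩ := J2.HundredGens.J2_iso Cfsg.Agent.S1619.result.2.2.2
  obtain ⟨χ, hχ⟩ := deg_175
  have h1 : H33.IM (5 ^ 2) G := ⟨χ, by rw [hχ]; norm_num⟩
  exact h1.of_equiv (e.trans f)

end Cfsg.Agent.H852.PSq.JTwo
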